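import Cfsg.Prelude.Def_Sz
import Cfsg.Agent.FrakL82.Sz
import Cfsg.Agent.Lib.RankOne.SzBridge
import Cfsg.Agent.PiHom72.Main
import Cfsg.Agent.PiHall23.Sep
import Cfsg.Agent.PF14.Compose

/-!
Groups of order prime to 3 that are π-homogeneous for odd π are π'-closed, given that the
simple groups of order prime to 3 are Suzuki groups.
-/

set_option autoImplicit false
set_option linter.style.haveILetI false
set_option linter.unusedSimpArgs false

namespace Cfsg.Agent.ThreePrime20

open Subgroup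
open scoped Pointwise commutatorElement

universe u

/-- The simple groups of order prime to 3 are Suzuki groups. -/
def SimpleThreePrime : Prop :=
  ∀ (S : Type u) [Group S] [Finite S], IsSimpleGroup S → ¬ IsMulCommutative S →
    ¬ 3 ∣ Nat.card S → Cfsg.Lie.IsoSuzuki S

variable {G : Type u} [Group G] [Finite G] {π : Set ℕ}

/-- In a Suzuki group every odd prime divisor has an element inverted by an involution. -/
theorem suzuki_real {S : Type u} [Group S] [Finite S] (h : Cfsg.Lie.IsoSuzuki S) {p : ℕ}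
    (hp : p.Prime) (hp2 : p ≠ 2) (hd : p ∣ Nat.card S) :
    ∃ x y : S, orderOf x = p ∧ y * x * y⁻¹ = x⁻¹ := by
  obtain ⟨F, _, _, m, hm, hF, ⟨e⟩⟩ := h
  let e' := e.trans (RankOne.SzBridge.szEquiv hF hm).symm
  haveI : Fact p.Prime := ⟨hp⟩
  obtain ⟨x, hx⟩ := exists_prime_orderOf_dvd_card' p hd
  obtain ⟨s, -, hs⟩ := FrakL82.sz_inverted hF hm hp hp2 (x := e' x) ((e'.orderOf_eq x).trans hx)
  refine ⟨x, e'.symm s, hx, e'.injective ?_⟩
  simpa using hs

/-- An inverted element of a section gives a 2-element acting on a p-subgroup. -/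
theorem not_hom_of_inverted (h2 : 2 ∉ π) {p : ℕ} (hp : p.Prime) (hpπ : p ∈ π)
    {L : Subgroup G} {Q : Type u} [Group Q] (f : ↥L →* Q) (hf : Function.Surjective f)
    {x y : Q} (hx : orderOf x = p) (hxy : y * x * y⁻¹ = x⁻¹) (hG : PiHom72.Hom π G) : False := by
  haveI : Fact p.Prime := ⟨hp⟩
  have hp2 : p ≠ 2 := fun h => h2 (h ▸ hpπ)
  obtain ⟨y₀, hy₀⟩ := hf y
  let Y : Subgroup ↥L := (zpowers x).comap f
  have hyY : y₀ ∈ normalizer (Y : Set ↥L) := by
    refine Subgroup.mem_normalizer_iff.2 fun z => ?_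
    simp only [Y, mem_comap, map_mul, map_inv, hy₀]
    constructor
    · intro hz
      obtain ⟨k, hk⟩ := mem_zpowers_iff.1 hz
      refine mem_zpowers_iff.2 ⟨-k, ?_⟩
      rw [← hk, ← conj_zpow, hxy, inv_zpow, zpow_neg]
    · intro hz
      obtain ⟨k, hk⟩ := mem_zpowers_iff.1 hz
      refine mem_zpowers_iff.2 ⟨-k, ?_⟩
      have e1 : y * x ^ (-k) * y⁻¹ = y * f z * y⁻¹ := by
        rw [← hk, ← conj_zpow, hxy, inv_zpow, zpow_neg, inv_inv]
      exact mul_left_cancel (mul_right_cancel e1)
  obtain ⟨P⟩ := (inferInstance : Nonempty (Sylow p ↥Y))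
  let P' : Subgroup ↥L := (P : Subgroup ↥Y).map Y.subtype
  -- Frattini
  have hfr : ∃ n ∈ normalizer (P' : Set ↥L), ∃ u ∈ Y, y₀ = u * n := by
    haveI hYN : (Y.subgroupOf (normalizer (Y : Set ↥L))).Normal := inferInstance
    let P₁ : Sylow p ↥Y := P.mapSurjective
      (f := (MulEquiv.refl ↥Y).toMonoidHom) (MulEquiv.refl ↥Y).surjective
    let c : ↥Y ≃* ↥Y :=
      { toFun := fun z => ⟨y₀ * z * y₀⁻¹, (Subgroup.mem_normalizer_iff.1 hyY _).1 z.2⟩
        invFun := fun z => ⟨y₀⁻¹ * z * y₀, (Subgroup.mem_normalizer_iff.1 hyY _).2 (by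
          simp [mul_assoc])⟩
        left_inv := fun z => Subtype.ext (by simp [mul_assoc])
        right_inv := fun z => Subtype.ext (by simp [mul_assoc])
        map_mul' := fun a b => Subtype.ext (by simp [mul_assoc]) }
    let R : Sylow p ↥Y := P.mapSurjective (f := c.toMonoidHom) c.surjective
    obtain ⟨w, hw⟩ := MulAction.exists_smul_eq ↥Y R P
    refine ⟨(w : ↥L) * y₀, ?_, (w : ↥L)⁻¹, inv_mem w.2, by simp [mul_assoc]⟩
    have hmap : P'.map (MulAut.conj ((w : ↥L) * y₀)).toMonoidHom = P' := by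
      have hw' : ((R : Subgroup ↥Y).map (MulAut.conj w).toMonoidHom) = (P : Subgroup ↥Y) := by
        rw [← hw]; rfl
      show ((P : Subgroup ↥Y).map Y.subtype).map _ = _
      conv_rhs => rw [show P' = (P : Subgroup ↥Y).map Y.subtype from rfl, ← hw']
      rw [show (R : Subgroup ↥Y) = (P : Subgroup ↥Y).map c.toMonoidHom from rfl, map_map, map_map,
        map_map]
      congr 1
      ext z
      simp [c, mul_assoc]
    refine Subgroup.mem_normalizer_iff.2 fun z => ?_
    conv_rhs => rw [← hmap]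
    exact (mem_map_iff_mem (MulAut.conj ((w : ↥L) * y₀)).injective).symm
  obtain ⟨n, hn, u, hu, hun⟩ := hfr
  have hPf : P'.map f = zpowers x := by
    refine le_antisymm ?_ ?_
    · rintro _ ⟨_, ⟨z, -, rfl⟩, rfl⟩; exact z.2
    · let fY : ↥Y →* ↥(zpowers x) :=
        { toFun := fun z => ⟨f z, z.2⟩, map_one' := Subtype.ext (map_one f),
          map_mul' := fun a b => Subtype.ext (map_mul f _ _) }
      have hfY : Function.Surjective fY := fun ⟨q, hq⟩ => by
        obtain ⟨z, rfl⟩ := hf q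
        exact ⟨⟨z, hq⟩, rfl⟩
      let P₂ := P.mapSurjective hfY
      have htop : (P₂ : Subgroup ↥(zpowers x)) = ⊤ := by
        have hpg : IsPGroup p ↥(⊤ : Subgroup ↥(zpowers x)) := by
          refine IsPGroup.of_card (n := 1) ?_
          rw [card_top, Nat.card_zpowers, hx, pow_one]
        exact (P₂.3 hpg le_top).symm
      intro q hq
      have : (⟨q, hq⟩ : ↥(zpowers x)) ∈ (P₂ : Subgroup ↥(zpowers x)) := htop ▸ mem_top _
      obtain ⟨z, hz, hzq⟩ := this
      exact ⟨Y.subtype z, mem_map_of_mem _ hz, congrArg Subtype.val hzq⟩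
  obtain ⟨k, hk⟩ := mem_zpowers_iff.1 (show f u ∈ zpowers x from hu)
  have hnx : f n * x * (f n)⁻¹ = x⁻¹ := by
    have hfn : f n = (x ^ k)⁻¹ * y := by
      rw [hk, ← hy₀, hun, map_mul, inv_mul_cancel_left]
    rw [hfn, show (x ^ k)⁻¹ * y * x * ((x ^ k)⁻¹ * y)⁻¹ = (x ^ k)⁻¹ * (y * x * y⁻¹) * x ^ k by group,
      hxy]
    group
  -- pass to the 2-part
  obtain ⟨a, m, hm, hnord⟩ := Nat.exists_eq_pow_mul_and_not_dvd (orderOf_pos n).ne' 2 (by norm_num)
  have hn2 : IsPGroup 2 ↥(zpowers (n ^ m)) := by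
    refine IsPGroup.of_card (n := a) ?_
    rw [Nat.card_zpowers, orderOf_pow' n (Nat.pos_of_ne_zero (by rintro rfl; simp at hm)).ne',
      hnord, Nat.gcd_eq_right (dvd_mul_left _ _), Nat.mul_div_cancel _
        (Nat.pos_of_ne_zero (by rintro rfl; simp at hm))]
  have hpowx : ∀ j : ℕ, f n ^ j * x * (f n ^ j)⁻¹ = x ^ ((-1 : ℤ) ^ j) := by
    intro j
    induction j with
    | zero => simp
    | succ j ih =>
      rw [pow_succ' (f n), show f n * f n ^ j * x * (f n * f n ^ j)⁻¹ =
        f n * (f n ^ j * x * (f n ^ j)⁻¹) * (f n)⁻¹ by group, ih, ← conj_zpow, hnx, inv_zpow,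
        ← zpow_neg, pow_succ']
      congr 1; ring
  have hmodd : Odd m := Nat.not_even_iff_odd.1 fun h => hm (even_iff_two_dvd.1 h)
  have hinv : f (n ^ m) * x * (f (n ^ m))⁻¹ = x⁻¹ := by
    rw [map_pow, hpowx, hmodd.neg_one_pow, zpow_neg, zpow_one]
  let H : Subgroup G := P'.map L.subtype
  have hH : IsPGroup p ↥H := (P.isPGroup'.map Y.subtype).map L.subtype
  have hHne : H ≠ ⊥ := by
    intro h
    have : P'.map f = ⊥ := by
      rw [show P' = ⊥ from (map_eq_bot_iff_of_injective _ L.subtype_injective).1 h, Subgroup.map_bot]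
    rw [hPf, zpowers_eq_bot] at this
    rw [this, orderOf_one] at hx
    exact hp.ne_one hx.symm
  have hnH : (n : G) ^ m ∈ normalizer (H : Set G) := by
    have h := le_normalizer_map (H := P') L.subtype (mem_map_of_mem L.subtype (pow_mem hn m))
    simpa [H, Subgroup.coe_map] using h
  have hnC : (n : G) ^ m ∉ centralizer (H : Set G) := by
    intro hc
    obtain ⟨z, hz, hzx⟩ := (show x ∈ P'.map f from hPf ▸ mem_zpowers x)
    have hcz : Commute (n ^ m) z := by
      have := mem_centralizer_iff.1 hc (z : G) (mem_map_of_mem L.subtype hz)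
      exact Subtype.ext (by push_cast; exact this.symm)
    have := hcz.map f
    rw [hzx] at this
    rw [(this.eq), mul_inv_cancel_right] at hinv
    have h2' : x ^ 2 = 1 := by rw [pow_two]; conv_lhs => arg 2; rw [hinv]
                               exact mul_inv_cancel x
    have := Nat.le_of_dvd two_pos (orderOf_dvd_of_pow_eq_one h2')
    rw [hx] at this
    exact hp2 (le_antisymm this hp.two_le)
  -- the image in N/C is a non-trivial 2-element
  haveI : ((centralizer (H : Set G)).subgroupOf (normalizer (H : Set G))).Normal := by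
    rw [← Subgroup.normalizerMonoidHom_ker H]
    exact MonoidHom.normal_ker _
  let q := QuotientGroup.mk' ((centralizer (H : Set G)).subgroupOf (normalizer (H : Set G)))
  set g : ↥(normalizer (H : Set G)) := ⟨(n : G) ^ m, hnH⟩
  have hg1 : q g ≠ 1 := fun h => hnC (mem_subgroupOf.1 ((QuotientGroup.eq_one_iff g).1 h))
  have hgo : ∃ b : ℕ, orderOf (q g) = 2 ^ b := by
    have hd : orderOf (q g) ∣ 2 ^ a := by
      refine (orderOf_map_dvd q g).trans ?_
      rw [← Subgroup.orderOf_coe g]
      show orderOf ((n : G) ^ m) ∣ 2 ^ a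
      rw [← SubmonoidClass.coe_pow, Subgroup.orderOf_coe]
      obtain ⟨b, hb⟩ := IsPGroup.iff_orderOf.1 hn2 ⟨n ^ m, mem_zpowers _⟩
      refine orderOf_dvd_of_pow_eq_one ?_
      rw [← pow_mul, show m * 2 ^ a = orderOf n by rw [hnord, mul_comm], pow_orderOf_eq_one]
    obtain ⟨b, -, hb⟩ := (Nat.dvd_prime_pow Nat.prime_two).1 hd
    exact ⟨b, hb⟩
  obtain ⟨b, hb⟩ := hgo
  have h2d : 2 ∣ (centralizer (H : Set G)).relIndex (normalizer (H : Set G)) := by
    have hd := orderOf_dvd_natCard (q g)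
    rw [hb] at hd
    have hb0 : b ≠ 0 := by rintro rfl; exact hg1 (orderOf_eq_one_iff.1 (by simpa using hb))
    exact (dvd_pow_self 2 hb0).trans hd
  exact h2 (hG H hHne (PiHom72.piSubgroup_of_pGroup hpπ hH) 2 Nat.prime_two h2d)

/-- No prime of π divides a non-abelian simple section. -/
def NoPi (π : Set ℕ) (G : Type u) [Group G] : Prop :=
  ∀ (L : Subgroup G) (Q : Type u) [Group Q] [Finite Q] (f : ↥L →* Q), Function.Surjective f →
    IsSimpleGroup Q → ¬ IsMulCommutative Q → ∀ p : ℕ, p.Prime → p ∈ π → ¬ p ∣ Nat.card Q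

theorem noPi_of_hom (hS : SimpleThreePrime.{u}) (hodd : ∀ p ∈ π, p ≠ 2)
    (h3 : ¬ 3 ∣ Nat.card G) (hG : PiHom72.Hom π G) : NoPi π G := by
  intro L Q _ _ f hf hQ hQc p hp hpπ hd
  have h3Q : ¬ 3 ∣ Nat.card Q := fun h =>
    h3 ((h.trans (Subgroup.card_dvd_of_surjective f hf)).trans (card_subgroup_dvd_card L))
  obtain ⟨x, y, hx, hxy⟩ := suzuki_real (hS Q hQ hQc h3Q) hp (hodd p hpπ) hd
  exact not_hom_of_inverted (fun h => hodd 2 h rfl) hp hpπ f hf hx hxy hG

omit [Finite G] in
theorem noPi_quotient (h : NoPi π G) (N : Subgroup G) [N.Normal] : NoPi π (G ⧸ N) := by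
  intro L Q _ _ f hf
  let g : ↥(L.comap (QuotientGroup.mk' N)) →* ↥L :=
    { toFun := fun z => ⟨QuotientGroup.mk' N z, z.2⟩
      map_one' := Subtype.ext (map_one _)
      map_mul' := fun a b => Subtype.ext (map_mul (QuotientGroup.mk' N) _ _) }
  have hg : Function.Surjective g := fun ⟨z, hz⟩ => by
    obtain ⟨w, rfl⟩ := QuotientGroup.mk'_surjective N z
    exact ⟨⟨w, hz⟩, rfl⟩
  exact h _ Q (f.comp g) (hf.comp hg)

/-- A minimal normal subgroup is a π-group or a π'-group. -/
theorem minimal_pi_or (h : NoPi π G) {N : Subgroup G} [hN : N.Normal] (hN1 : N ≠ ⊥)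
    (hmin : ∀ K : Subgroup G, K.Normal → K ≤ N → K = ⊥ ∨ K = N) :
    (∀ q : ℕ, q.Prime → q ∣ Nat.card N → q ∈ π) ∨
      (∀ q : ℕ, q.Prime → q ∣ Nat.card N → q ∉ π) := by
  classical
  haveI : Nontrivial ↥N := (Subgroup.nontrivial_iff_ne_bot N).2 hN1
  let S : Set (Subgroup ↥N) := {M | M.Normal ∧ M ≠ ⊤ ∧ ∀ M' : Subgroup ↥N, M'.Normal → M < M' → M' = ⊤}
  have hSne : ∃ M, M ∈ S := by
    obtain ⟨M, -, hM⟩ := (Set.toFinite {K : Subgroup ↥N | K.Normal ∧ K ≠ ⊤}).exists_le_maximal
      (a := ⊥) ⟨inferInstance, bot_ne_top⟩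
    refine ⟨M, hM.1.1, hM.1.2, fun M' hn hlt => ?_⟩
    by_contra hne
    exact hlt.not_ge (hM.2 ⟨hn, hne⟩ hlt.le)
  haveI hSn : ∀ M : S, (M : Subgroup ↥N).Normal := fun M => M.2.1
  have hker : (⨅ M : S, (M : Subgroup ↥N)) = ⊥ := by
    set I := ⨅ M : S, (M : Subgroup ↥N) with hI
    haveI : I.Characteristic := by
      refine characteristic_iff_le_comap.2 fun φ => ?_
      rw [hI, comap_iInf]
      refine le_iInf fun M => ?_
      have hmem : (M : Subgroup ↥N).comap φ.toMonoidHom ∈ S := by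
        refine ⟨M.2.1.comap _, fun htop => M.2.2.1 ?_, fun M' hn hlt => ?_⟩
        · have := congrArg (Subgroup.map φ.toMonoidHom) htop
          rwa [map_comap_eq_self_of_surjective φ.surjective, map_top_of_surjective _ φ.surjective] at this
        · have h' := M.2.2.2 (M'.map φ.toMonoidHom) (hn.map _ φ.surjective) (by
            conv_lhs => rw [← map_comap_eq_self_of_surjective (f := φ.toMonoidHom) φ.surjective (M : Subgroup ↥N)]
            exact (map_lt_map_iff_of_injective φ.injective).2 hlt)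
          have := congrArg (Subgroup.comap φ.toMonoidHom) h'
          rwa [comap_map_eq_self_of_injective φ.injective, comap_top] at this
      exact iInf_le _ (⟨_, hmem⟩ : S)
    rcases hmin (I.map N.subtype) inferInstance (map_subtype_le I) with h0 | h0
    · exact (map_eq_bot_iff_of_injective _ N.subtype_injective).1 h0
    · exfalso
      obtain ⟨M, hM⟩ := hSne
      refine hM.2.1 (top_le_iff.1 fun z _ => ?_)
      have hz : (z : G) ∈ I.map N.subtype := by rw [h0]; exact z.2
      obtain ⟨w, hw, hwz⟩ := hz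
      have : w = z := Subtype.ext hwz
      exact iInf_le (fun M : S => (M : Subgroup ↥N)) ⟨M, hM⟩ (this ▸ hw)
  let φ : ↥N →* ∀ M : S, ↥N ⧸ (M : Subgroup ↥N) := MonoidHom.pi fun M => QuotientGroup.mk' _
  have hφ : Function.Injective φ := by
    rw [← MonoidHom.ker_eq_bot_iff, eq_bot_iff, ← hker]
    intro z hz
    refine mem_iInf.2 fun M => (QuotientGroup.eq_one_iff z).1 ?_
    exact congrFun (MonoidHom.mem_ker.1 hz) M
  haveI : Fintype S := Fintype.ofFinite S
  have hdvd : Nat.card ↥N ∣ ∏ M : S, Nat.card (↥N ⧸ (M : Subgroup ↥N)) := by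
    rw [← Nat.card_pi]; exact Subgroup.card_dvd_of_injective φ hφ
  by_cases hab : IsMulCommutative ↥N
  · -- abelian: a prime power
    obtain ⟨r, hr, hrN⟩ := Nat.exists_prime_and_dvd (Finite.one_lt_card (α := ↥N)).ne'
    haveI : Fact r.Prime := ⟨hr⟩
    obtain ⟨P⟩ := (inferInstance : Nonempty (Sylow r ↥N))
    haveI : (P : Subgroup ↥N).Normal := ⟨fun a ha g => by
      rw [hab.is_comm.comm g a, mul_inv_cancel_right]; exact ha⟩
    haveI : (P : Subgroup ↥N).Characteristic := Sylow.characteristic_of_normal P inferInstance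
    have hPtop : (P : Subgroup ↥N) = ⊤ := by
      rcases hmin ((P : Subgroup ↥N).map N.subtype) inferInstance (map_subtype_le _) with h0 | h0
      · exact absurd ((map_eq_bot_iff_of_injective _ N.subtype_injective).1 h0)
          (P.ne_bot_of_dvd_card hrN)
      · exact map_injective N.subtype_injective (h0.trans (by simp [← MonoidHom.range_eq_map]))
    have hone : ∀ q : ℕ, q.Prime → q ∣ Nat.card N → q = r := by
      intro q hq hd
      obtain ⟨j, hj⟩ := IsPGroup.iff_card.1 P.isPGroup'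
      rw [hPtop, card_top] at hj
      rw [hj] at hd
      exact (Nat.prime_dvd_prime_iff_eq hq hr).1 (hq.dvd_of_dvd_pow hd)
    by_cases hrπ : r ∈ π
    · exact Or.inl fun q hq hd => hone q hq hd ▸ hrπ
    · exact Or.inr fun q hq hd => hone q hq hd ▸ hrπ
  · refine Or.inr fun q hq hd hqπ => ?_
    obtain ⟨M, -, hM⟩ := (Nat.prime_iff.1 hq).exists_mem_finset_dvd (hd.trans hdvd)
    haveI : Nontrivial (↥N ⧸ (M : Subgroup ↥N)) := by
      rw [QuotientGroup.nontrivial_iff]; exact M.2.2.1
    have hsimp : IsSimpleGroup (↥N ⧸ (M : Subgroup ↥N)) := by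
      refine ⟨fun K hK => ?_⟩
      have hle : (M : Subgroup ↥N) ≤ K.comap (QuotientGroup.mk' _) := QuotientGroup.le_comap_mk' _ _
      rcases eq_or_lt_of_le hle with he | hlt
      · left
        have := congrArg (Subgroup.map (QuotientGroup.mk' (M : Subgroup ↥N))) he.symm
        rwa [map_comap_eq_self_of_surjective (QuotientGroup.mk'_surjective _),
          QuotientGroup.map_mk'_self] at this
      · right
        have := congrArg (Subgroup.map (QuotientGroup.mk' (M : Subgroup ↥N)))
          (M.2.2.2 _ (hK.comap _) hlt)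
        rwa [map_comap_eq_self_of_surjective (QuotientGroup.mk'_surjective _),
          map_top_of_surjective _ (QuotientGroup.mk'_surjective _)] at this
    refine h N _ (QuotientGroup.mk' (M : Subgroup ↥N)) (QuotientGroup.mk'_surjective _) hsimp ?_
      q hq hqπ hM
    intro hc
    -- N' ≤ M, so N' is proper, hence trivial
    have hle : commutator ↥N ≤ (M : Subgroup ↥N) := by
      rw [commutator_eq_closure, closure_le]
      rintro _ ⟨a, b, rfl⟩
      refine (QuotientGroup.eq_one_iff _).1 ?_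
      rw [← QuotientGroup.mk'_apply, map_commutatorElement, commutatorElement_eq_one_iff_mul_comm]
      exact hc.is_comm.comm _ _
    rcases hmin ((commutator ↥N).map N.subtype) inferInstance (map_subtype_le _) with h0 | h0
    · refine hab ⟨⟨fun a b => ?_⟩⟩
      rw [← commutatorElement_eq_one_iff_mul_comm]
      have : ⁅a, b⁆ ∈ commutator ↥N := commutator_mem_commutator (mem_top a) (mem_top b)
      rwa [(map_eq_bot_iff_of_injective _ N.subtype_injective).1 h0, mem_bot] at this
    · refine M.2.2.1 (top_le_iff.1 (le_trans ?_ hle))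
      exact (map_injective N.subtype_injective (h0.trans (by simp [← MonoidHom.range_eq_map]))).ge

theorem sep_of_noPi : ∀ (n : ℕ) (G : Type u) [Group G] [Finite G], Nat.card G = n → NoPi π G →
    PiHall23.Sep π G := by
  intro n
  induction n using Nat.strong_induction_on with
  | _ n ih =>
  intro G _ _ hn h
  rcases subsingleton_or_nontrivial G with hs | hnt
  · refine ⟨0, fun _ => ⊥, rfl, Subsingleton.elim _ _, monotone_const, fun _ => inferInstance,
      fun i => i.elim0⟩
  · obtain ⟨N, -, hN⟩ := (Set.toFinite {K : Subgroup G | K.Normal ∧ K ≠ ⊥}).exists_le_minimal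
      (a := ⊤) ⟨inferInstance, top_ne_bot⟩
    haveI := hN.1.1
    have hN1 : N ≠ ⊥ := hN.1.2
    have hlt : Nat.card (G ⧸ N) < n := by
      rw [← hn, Subgroup.card_eq_card_quotient_mul_card_subgroup N]
      exact lt_mul_of_one_lt_right Nat.card_pos ((one_lt_card_iff_ne_bot _).2 hN1)
    obtain ⟨k, H, h0, h1, hmono, hnorm, hfac⟩ := ih _ hlt (G ⧸ N) rfl (noPi_quotient h N)
    have hmin := minimal_pi_or h hN1 fun K hK hKN => by
      by_contra! hne
      exact hne.2 (le_antisymm hKN (hN.2 ⟨hK, hne.1⟩ hKN))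
    let H' : Fin (k + 2) → Subgroup G := Fin.cons ⊥ fun i => (H i).comap (QuotientGroup.mk' N)
    refine ⟨k + 1, H', rfl, ?_, ?_, ?_, ?_⟩
    · rw [show Fin.last (k + 1) = (Fin.last k).succ from rfl]
      simp [H', h1]
    · refine Fin.monotone_iff_le_succ.2 fun i => ?_
      induction i using Fin.cases with
      | zero => simp [H']
      | succ i =>
        simp only [H', ← Fin.succ_castSucc, Fin.cons_succ]
        exact comap_mono (hmono (Fin.castSucc_le_succ i))
    · intro i
      induction i using Fin.cases with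
      | zero => simp only [H', Fin.cons_zero]; infer_instance
      | succ i => simp only [H', Fin.cons_succ]; exact (hnorm i).comap _
    · intro i
      induction i using Fin.cases with
      | zero =>
        simp only [H', Fin.castSucc_zero, Fin.cons_zero, Fin.cons_succ, h0,
          MonoidHom.comap_bot, QuotientGroup.ker_mk', relIndex_bot_left]
        exact hmin
      | succ i =>
        simp only [H', ← Fin.succ_castSucc, Fin.cons_succ]
        rw [relIndex_comap, map_comap_eq_self_of_surjective (QuotientGroup.mk'_surjective N)]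
        exact hfac i

theorem dpi_of_sep (hsep : PiHall23.Sep π G) : Cfsg.IsDPiGroup π G := by
  obtain ⟨-, hconj, hex⟩ := PiHall23.sep_dpi PF14.feitThompson.{u} hsep
  intro H K hH hK
  obtain ⟨H', hH', hle⟩ := hex H hH.1
  obtain ⟨K', hK', hle'⟩ := hex K hK.1
  obtain rfl : H = H' := le_antisymm hle (hH.2 hH'.1 hle)
  obtain rfl : K = K' := le_antisymm hle' (hK.2 hK'.1 hle')
  exact hconj H K hH' hK'

/-- The form of S4045. -/
theorem s4045_of (hS : SimpleThreePrime.{u}) (hodd : ∀ p ∈ π, p.Prime ∧ p ≠ 2)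
    (h3 : ¬ 3 ∣ Nat.card G) (hG : PiHom72.Hom π G) :
    ∃ K : Subgroup G, ∀ x : G, x ∈ K ↔ ∀ p : ℕ, p.Prime → p ∣ orderOf x → p ∉ π :=
  PiHom72.exists_compl_set
    (dpi_of_sep (sep_of_noPi _ G rfl (noPi_of_hom hS (fun p hp => (hodd p hp).2) h3 hG))) hG

end Cfsg.Agent.ThreePrime20
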