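import Cfsg.Agent.ThreePrime72.Defs

/-!
# Simple groups of order prime to three: the points of the coset action

The pieces `FixTransStmt` and `MiddleStmt`: the action on the cosets of the subgroup `M`
containing the normalizer and the centralizers of the strongly closed `A`.
-/

set_option autoImplicit false

namespace Cfsg.Agent.ThreePrime20.Points

set_option linter.style.haveILetI false
set_option linter.unusedSectionVars false

open Subgroup ThreePrime72 ThreePrime74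

universe u

variable {G : Type u} [Group G]

/-! ## Involutions with product of odd order -/

/-- Two involutions with product of odd order: a power `e` of the product whose square carries
`x` to `y` and which is inverted by `x`. -/
theorem exists_half {x y : G} (hx : x * x = 1) (hy : y * y = 1) (ho : Odd (orderOf (x * y))) :
    ∃ j : ℕ, let e := (x * y) ^ j
      x * e * x⁻¹ = e⁻¹ ∧ e * e * x * (e * e)⁻¹ = y := by
  obtain ⟨k, hk⟩ := ho
  refine ⟨2 * k ^ 3, ?_⟩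
  intro e
  have hxi : x⁻¹ = x := inv_eq_of_mul_eq_one_right hx
  have hyi : y⁻¹ = y := inv_eq_of_mul_eq_one_right hy
  have hinv : x * e * x⁻¹ = e⁻¹ := by
    show x * (x * y) ^ (2 * k ^ 3) * x⁻¹ = ((x * y) ^ (2 * k ^ 3))⁻¹
    rw [← conj_pow, ← inv_pow]
    congr 1
    rw [mul_inv_rev, hyi, hxi, ← mul_assoc x x y, hx, one_mul]
  refine ⟨hinv, ?_⟩
  have hdvd : 2 * k + 1 ∣ 8 * k ^ 3 + 1 := by
    rcases k with _ | k
    · simp
    · exact ⟨4 * k ^ 2 + 6 * k + 3, by ring⟩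
  have hpow : e * e * (e * e) * (x * y) = 1 := by
    show (x * y) ^ (2 * k ^ 3) * (x * y) ^ (2 * k ^ 3) *
      ((x * y) ^ (2 * k ^ 3) * (x * y) ^ (2 * k ^ 3)) * (x * y) = 1
    rw [← pow_add, ← pow_add, ← pow_succ]
    refine orderOf_dvd_iff_pow_eq_one.1 ?_
    rw [hk, show 2 * k ^ 3 + 2 * k ^ 3 + (2 * k ^ 3 + 2 * k ^ 3) + 1 = 8 * k ^ 3 + 1 by ring]
    exact hdvd
  have h1 : x * (e * e)⁻¹ = e * e * x := by
    have h2 : x * (e * e) * x⁻¹ = (e * e)⁻¹ := by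
      rw [show x * (e * e) * x⁻¹ = x * e * x⁻¹ * (x * e * x⁻¹) by group, hinv, ← mul_inv_rev]
    rw [← h2, hxi, ← mul_assoc, ← mul_assoc x x, hx, one_mul]
  calc e * e * x * (e * e)⁻¹ = e * e * (e * e) * x := by
        rw [mul_assoc (e * e) x, h1, ← mul_assoc]
    _ = (x * y)⁻¹ * x := by rw [eq_inv_of_mul_eq_one_left hpow]
    _ = y := by rw [mul_inv_rev, hyi, hxi, mul_assoc, hx, mul_one]

/-- The middle involution. -/
theorem exists_middle {t x y : G} (hx : x * x = 1) (hy : y * y = 1) (ho : Odd (orderOf (x * y)))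
    (htx : t * x * t⁻¹ = y) (hty : t * y * t⁻¹ = x) :
    ∃ e : G, t * (e * x * e⁻¹) = e * x * e⁻¹ * t ∧
      e * x * e⁻¹ * x * (e * x * e⁻¹)⁻¹ = y := by
  obtain ⟨j, hj⟩ := exists_half hx hy ho
  set e := (x * y) ^ j with he
  obtain ⟨hinv, hsq⟩ : x * e * x⁻¹ = e⁻¹ ∧ e * e * x * (e * e)⁻¹ = y := hj
  refine ⟨e, ?_, ?_⟩
  · have hte : t * e * t⁻¹ = e⁻¹ := by
      rw [he, ← conj_pow, ← inv_pow]
      congr 1
      rw [show t * (x * y) * t⁻¹ = t * x * t⁻¹ * (t * y * t⁻¹) by group, htx, hty, mul_inv_rev,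
        inv_eq_of_mul_eq_one_right hx, inv_eq_of_mul_eq_one_right hy]
    calc t * (e * x * e⁻¹) = t * e * t⁻¹ * (t * x * t⁻¹) * (t * e * t⁻¹)⁻¹ * t := by group
      _ = e⁻¹ * (e * e * x * (e * e)⁻¹) * e * t := by rw [hte, htx, hsq, inv_inv]
      _ = e * x * e⁻¹ * t := by group
  · have hxe : x * e⁻¹ = e * x := by
      rw [← hinv, inv_eq_of_mul_eq_one_right hx, ← mul_assoc, ← mul_assoc x x, hx, one_mul]
    have : e * x * e⁻¹ = e * e * x := by rw [mul_assoc e x, hxe, ← mul_assoc]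
    rw [this]
    calc e * e * x * x * (e * e * x)⁻¹ = e * e * (x * x * x⁻¹) * (e * e)⁻¹ := by group
      _ = y := by rw [mul_assoc x x, mul_inv_cancel, mul_one, hsq]

/-! ## The coset action -/

theorem smul_coe_eq_iff {M : Subgroup G} {x g : G} :
    x • (g : G ⧸ M) = (g : G ⧸ M) ↔ g⁻¹ * x * g ∈ M := by
  rw [eq_comm, MulAction.Quotient.smul_coe, QuotientGroup.eq, smul_eq_mul, mul_assoc]

variable [Finite G] {S : Sylow 2 G} {A M : Subgroup G}

theorem sq_eq (hB : Big S A M) : ∀ a ∈ A, a * a = 1 := fun a ha => by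
  rw [← pow_two]; exact hB.elem.2 a ha

theorem commA (hB : Big S A M) {a b : G} (ha : a ∈ A) (hb : b ∈ A) : a * b = b * a := by
  haveI := hB.elem.1
  exact congrArg Subtype.val (mul_comm' (⟨a, ha⟩ : ↥A) ⟨b, hb⟩)

theorem exists_ne_one (hB : Big S A M) : ∃ a ∈ A, a ≠ 1 := by
  refine A.bot_or_exists_ne_one.resolve_left fun h => ?_
  have := hB.big
  rw [h, card_bot] at this
  omega

theorem sylow_le (hB : Big S A M) : (S : Subgroup G) ≤ M :=
  hB.ctl.sylow_le.trans hB.nle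

theorem A_le (hB : Big S A M) : A ≤ M := le_normalizer.trans hB.nle

/-- A nontrivial element of a conjugate of `A` fixes only its own point. -/
theorem fix_only (hB : Big S A M) {a h : G} (ha : a ∈ A) (ha1 : a ≠ 1) {c : G ⧸ M}
    (hc : (h * a * h⁻¹) • c = c) : c = (h : G ⧸ M) := by
  obtain ⟨g, rfl⟩ := QuotientGroup.mk_surjective c
  rw [smul_coe_eq_iff] at hc
  rw [QuotientGroup.eq]
  exact hB.ctl.key (sq_eq hB) hB.nle hB.cle ha ha1 (g := g⁻¹ * h) (by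
    rwa [show g⁻¹ * h * a * (g⁻¹ * h)⁻¹ = g⁻¹ * (h * a * h⁻¹) * g by group])

theorem fix_own (hB : Big S A M) {a h : G} (ha : a ∈ A) :
    (h * a * h⁻¹) • (h : G ⧸ M) = (h : G ⧸ M) := by
  rw [smul_coe_eq_iff, show h⁻¹ * (h * a * h⁻¹) * h = a by group]
  exact A_le hB ha

/-- A `2`-subgroup of `M` is conjugate in `M` into `S`. -/
theorem exists_into (hB : Big S A M) {R : Subgroup G} (hR : IsPGroup 2 ↥R) (hRM : R ≤ M) :
    ∃ m ∈ M, ∀ x ∈ R, m * x * m⁻¹ ∈ (S : Subgroup G) := by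
  haveI : Fact (Nat.Prime 2) := ⟨Nat.prime_two⟩
  obtain ⟨Q, hQ⟩ := (hR.of_equiv (subgroupOfEquivOfLe hRM).symm).exists_le_sylow
  obtain ⟨d, hd⟩ := MulAction.exists_smul_eq ↥M Q (S.subtype (sylow_le hB))
  refine ⟨d, d.2, fun x hx => ?_⟩
  have h3 : d * ⟨x, hRM hx⟩ * d⁻¹ ∈ ((S.subtype (sylow_le hB) : Sylow 2 ↥M) : Subgroup ↥M) := by
    rw [← hd, Sylow.coe_subgroup_smul]
    exact smul_mem_pointwise_smul _ (MulAut.conj d) _ (hQ hx)
  exact h3

omit [Finite G] in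
theorem isPGroup_zpowers {t : G} (ht : t * t = 1) : IsPGroup 2 ↥(zpowers t) := by
  intro w
  obtain ⟨z, hz⟩ := mem_zpowers_iff.1 w.2
  refine ⟨1, Subtype.ext ?_⟩
  show (w : G) ^ 2 ^ 1 = 1
  rw [pow_one, pow_two, ← hz, ← zpow_add, ← two_mul, zpow_mul, zpow_two, ht, one_zpow]

/-- `A` is strongly closed in every `2`-subgroup containing it. -/
theorem conj_mem_of_pgroup (hB : Big S A M) {Q : Subgroup G} (hQ : IsPGroup 2 ↥Q) (hAQ : A ≤ Q)
    {a g : G} (ha : a ∈ A) (hg : g * a * g⁻¹ ∈ Q) : g * a * g⁻¹ ∈ A := by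
  haveI : Fact (Nat.Prime 2) := ⟨Nat.prime_two⟩
  obtain ⟨P, hP⟩ := hQ.exists_le_sylow
  obtain ⟨c, hcP⟩ := MulAction.exists_smul_eq G P S
  have hS : ∀ z ∈ Q, c * z * c⁻¹ ∈ (S : Subgroup G) := fun z hz => by
    rw [← hcP, Sylow.coe_subgroup_smul]
    exact smul_mem_pointwise_smul z (MulAut.conj c) _ (hP hz)
  have hc : c ∈ normalizer (A : Set G) :=
    ThreePrime24.mem_normalizer_of_conj_le hB.ctl.sc fun z hz => hS z (hAQ hz)
  have h := hB.ctl.sc.2 a ha (c * g) (by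
    rw [show c * g * a * (c * g)⁻¹ = c * (g * a * g⁻¹) * c⁻¹ by group]
    exact hS _ hg)
  rw [show c * g * a * (c * g)⁻¹ = c * (g * a * g⁻¹) * c⁻¹ by group] at h
  exact (mem_normalizer_iff.1 hc _).2 h

/-- At every fixed point of an involution some nontrivial element commutes with it. -/
theorem exists_commuting (hB : Big S A M) {t : G} (ht : t * t = 1) {c : G ⧸ M} (hc : t • c = c) :
    ∃ h : G, (h : G ⧸ M) = c ∧ ∃ a ∈ A, a ≠ 1 ∧ t * (h * a * h⁻¹) = h * a * h⁻¹ * t := by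
  obtain ⟨g, rfl⟩ := QuotientGroup.mk_surjective c
  rw [smul_coe_eq_iff] at hc
  have ht0 : g⁻¹ * t * g * (g⁻¹ * t * g) = 1 := by
    rw [show g⁻¹ * t * g * (g⁻¹ * t * g) = g⁻¹ * (t * t) * g by group, ht]
    group
  obtain ⟨m, hm, hmS⟩ := exists_into hB (isPGroup_zpowers ht0) (zpowers_le.2 hc)
  obtain ⟨s, hs⟩ : ∃ s, s = m * (g⁻¹ * t * g) * m⁻¹ := ⟨_, rfl⟩
  have hsS : s ∈ (S : Subgroup G) := hs ▸ hmS _ (mem_zpowers _)
  have hsN := hB.ctl.sylow_le hsS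
  have hs2 : s * s = 1 := by
    rw [hs, show m * (g⁻¹ * t * g) * m⁻¹ * (m * (g⁻¹ * t * g) * m⁻¹) =
      m * (g⁻¹ * t * g * (g⁻¹ * t * g)) * m⁻¹ by group, ht0]
    group
  obtain ⟨a, ha, ha1, hsa⟩ : ∃ a ∈ A, a ≠ 1 ∧ s * a = a * s := by
    obtain ⟨a, ha, ha1⟩ := exists_ne_one hB
    by_cases hfix : s * a = a * s
    · exact ⟨a, ha, ha1, hfix⟩
    have ha' : s * a * s⁻¹ ∈ A := (mem_normalizer_iff.1 hsN a).1 ha
    refine ⟨a * (s * a * s⁻¹), mul_mem ha ha', fun h => hfix ?_, ?_⟩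
    · have h2 : s * a * s⁻¹ = a := by
        rw [eq_inv_of_mul_eq_one_right h, inv_eq_of_mul_eq_one_right (sq_eq hB a ha)]
      exact mul_inv_eq_iff_eq_mul.1 h2
    · have hsi : s⁻¹ = s := inv_eq_of_mul_eq_one_right hs2
      rw [hsi] at ha' ⊢
      calc s * (a * (s * a * s)) = s * a * s * a * s := by simp only [mul_assoc]
        _ = a * (s * a * s) * s := by rw [commA hB ha' ha]
  refine ⟨g * m⁻¹, ?_, a, ha, ha1, ?_⟩
  · rw [QuotientGroup.eq]
    simpa [mul_assoc] using hm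
  · have e1 : t = g * m⁻¹ * s * (g * m⁻¹)⁻¹ := by rw [hs]; group
    rw [e1]
    calc g * m⁻¹ * s * (g * m⁻¹)⁻¹ * (g * m⁻¹ * a * (g * m⁻¹)⁻¹)
        = g * m⁻¹ * (s * a) * (g * m⁻¹)⁻¹ := by group
      _ = _ := by rw [hsa]; group

/-- Elements at different points have product of odd order. -/
theorem odd_at (hB : Big S A M) {a b g h : G} (ha : a ∈ A) (ha1 : a ≠ 1) (hb : b ∈ A)
    (hb1 : b ≠ 1) (hne : (g : G ⧸ M) ≠ (h : G ⧸ M)) :
    Odd (orderOf (g * a * g⁻¹ * (h * b * h⁻¹))) := by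
  have h1 := hB.ctl.odd_mul (sq_eq hB) hB.nle hB.cle ha ha1 hb hb1 (g := g⁻¹ * h)
    (fun hm => hne (QuotientGroup.eq.2 hm))
  rw [show g⁻¹ * h * b * (g⁻¹ * h)⁻¹ = g⁻¹ * (h * b * h⁻¹) * g by group] at h1
  rw [← (MulAut.conj g).orderOf_eq, MulAut.conj_apply] at h1
  rwa [show g * (a * (g⁻¹ * (h * b * h⁻¹) * g)) * g⁻¹ = g * a * g⁻¹ * (h * b * h⁻¹) by group]
    at h1

theorem conj_sq {a g : G} (ha : a * a = 1) : g * a * g⁻¹ * (g * a * g⁻¹) = 1 := by
  rw [show g * a * g⁻¹ * (g * a * g⁻¹) = g * (a * a) * g⁻¹ by group, ha]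
  group

/-- The centralizer of an involution is transitive on its fixed points. -/
theorem fix_trans (hB : Big S A M) {t : G} (ht : t * t = 1) {c d : G ⧸ M} (hc : t • c = c)
    (hd : t • d = d) : ∃ g : G, g * t = t * g ∧ g • c = d := by
  rcases eq_or_ne c d with rfl | hne
  · exact ⟨1, by simp, one_smul _ _⟩
  obtain ⟨h, rfl, a, ha, ha1, hca⟩ := exists_commuting hB ht hc
  obtain ⟨k, rfl, b, hb, hb1, hcb⟩ := exists_commuting hB ht hd
  obtain ⟨j, hj⟩ := exists_half (conj_sq (g := h) (sq_eq hB a ha))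
    (conj_sq (g := k) (sq_eq hB b hb)) (odd_at hB ha ha1 hb hb1 hne)
  set e := (h * a * h⁻¹ * (k * b * k⁻¹)) ^ j
  have hte : Commute t e := (Commute.mul_right hca hcb).pow_right j
  refine ⟨e * e, (hte.mul_right hte).symm.eq, fix_only hB hb hb1 ?_⟩
  rw [← hj.2, mul_smul, mul_smul, inv_smul_smul, fix_own hB ha]

/-- No nontrivial element fixes every point. -/
theorem moves (hG : ThreePrime72.Min G) (hB : Big S A M) {t : G} (ht : t ≠ 1) : ∃ b : G ⧸ M, t • b ≠ b := by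
  by_contra! hall
  have hcore : t ∈ M.normalCore := fun g => by
    have := smul_coe_eq_iff.1 (hall ((g⁻¹ : G) : G ⧸ M))
    rwa [inv_inv] at this
  haveI := hG.simple
  rcases (normalCore_normal M).eq_bot_or_eq_top with h | h
  · exact ht (mem_bot.1 (h ▸ hcore))
  · exact hB.proper (top_le_iff.1 (h ▸ M.normalCore_le))

/-- The rank of `A` is odd. -/
theorem card_A (hG : ThreePrime72.Min G) (hB : Big S A M) :
    ∃ e : ℕ, Odd e ∧ 3 ≤ e ∧ Nat.card ↥A = 2 ^ e := by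
  haveI : Fact (Nat.Prime 2) := ⟨Nat.prime_two⟩
  obtain ⟨e, he⟩ := (S.2.to_le hB.ctl.sc.1).exists_card_eq
  have h3e : 3 ≤ e := (Nat.pow_le_pow_iff_right (le_refl 2)).1 (he ▸ hB.big)
  refine ⟨e, Nat.not_even_iff_odd.1 ?_, h3e, he⟩
  rintro ⟨j, hj⟩
  obtain ⟨a0, ha0, ha01⟩ := exists_ne_one hB
  let N := (normalizer (A : Set G)).map (ConjAct.toConjAct : G ≃* ConjAct G).toMonoidHom
  have horb : MulAction.orbit ↥N a0 = (A : Set G) \ {1} := by
    ext x
    constructor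
    · rintro ⟨⟨n, g, hg, rfl⟩, rfl⟩
      show g * a0 * g⁻¹ ∈ (A : Set G) \ {1}
      exact ⟨(mem_normalizer_iff.1 hg a0).1 ha0, fun h => ha01 (conj_eq_one_iff.1 h)⟩
    · rintro ⟨hx, hx1⟩
      obtain ⟨n, hn, hne⟩ := hB.ctl.transitive (sq_eq hB) hB.proper hB.nle
        (fun a ha ha1 b hb hb1 g hg =>
          hB.ctl.odd_mul (sq_eq hB) hB.nle hB.cle ha ha1 hb hb1 hg) ha0 ha01 hx hx1
      exact ⟨⟨_, n, hn, rfl⟩, hne⟩
  have h1 := index_dvd_card (MulAction.stabilizer ↥N a0)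
  rw [MulAction.index_stabilizer, horb,
    Set.ncard_sdiff_singleton_of_mem (SetLike.mem_coe.2 A.one_mem),
    ← Nat.card_coe_set_eq, show Nat.card ((A : Set G) : Type u) = Nat.card ↥A from rfl, he,
    card_map_of_injective (ConjAct.toConjAct : G ≃* ConjAct G).injective] at h1
  refine hG.three (dvd_trans ?_ (h1.trans (card_subgroup_dvd_card _)))
  rw [hj, ← two_mul, pow_mul]
  simpa using Nat.sub_dvd_pow_sub_pow 4 1 j

/-- Piece FixTrans. -/
theorem fixTrans : FixTransStmt.{u} := by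
  intro G _ _ hG S A M hB
  refine ⟨fun t _ ht c d hc hd => fix_trans hB ht hc hd, fun a ha ha1 c hc => ?_,
    fun t ht => moves hG hB ht, card_A hG hB, fun hno => ?_⟩
  · exact fix_only (h := 1) hB ha ha1 (by simpa using hc)
  · refine ⟨hB.proper, even_iff_two_dvd.2 ?_, fun g hg => ?_⟩
    · obtain ⟨e, -, he3, he⟩ := card_A hG hB
      exact ((dvd_pow_self 2 (by omega : e ≠ 0)).trans (dvd_of_eq he.symm)).trans
        (card_dvd_of_le (A_le hB))
    · rw [← Nat.not_even_iff_odd, even_iff_two_dvd]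
      intro h2
      haveI : Fact (Nat.Prime 2) := ⟨Nat.prime_two⟩
      obtain ⟨⟨t, htM, htg⟩, ht⟩ := exists_prime_orderOf_dvd_card' 2 h2
      replace ht : orderOf t = 2 := (Subgroup.orderOf_coe _).trans ht
      rw [orderOf_eq_prime_iff] at ht
      obtain ⟨m, hm, hmt⟩ := htg
      refine hno t ⟨ht.2, by rw [← pow_two]; exact ht.1, ((1 : G) : G ⧸ M), (g : G ⧸ M),
        fun h => hg ?_, ?_, ?_⟩
      · simpa using QuotientGroup.eq.1 h
      · rw [smul_coe_eq_iff]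
        simpa using htM
      · rw [smul_coe_eq_iff, ← hmt]
        simpa [mul_assoc] using hm

/-- Piece Middle. -/
theorem middle : MiddleStmt.{u} := by
  intro G _ _ hG S A M hB t ht hAt
  haveI : Fact (Nat.Prime 2) := ⟨Nat.prime_two⟩
  obtain ⟨ht1, ht2, p, q, hpq, hp, hq⟩ := id ht
  have hta : ∀ a ∈ A, t * a = a * t := fun a ha => (mem_centralizer_singleton_iff.1 (hAt ha)).symm
  obtain ⟨a0, ha0, ha01⟩ := exists_ne_one hB
  have htM : t ∈ M := hB.cle a0 ha0 ha01 (mem_centralizer_singleton_iff.2 (hta a0 ha0))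
  have hto : t • ((1 : G) : G ⧸ M) = ((1 : G) : G ⧸ M) := by
    rw [smul_coe_eq_iff]; simpa using htM
  have hmid : ∀ b : G ⧸ M, t • b ≠ b → ∃ g : G, g * t = t * g ∧ ∃ w ∈ A, w ≠ 1 ∧
      (g * (t * w) * g⁻¹) • b = b := by
    intro b hb
    obtain ⟨h, rfl⟩ := QuotientGroup.mk_surjective b
    obtain ⟨x, hx⟩ : ∃ x, x = h * a0 * h⁻¹ := ⟨_, rfl⟩
    obtain ⟨y, hy⟩ : ∃ y, y = t * h * a0 * (t * h)⁻¹ := ⟨_, rfl⟩
    have hxy : t * x * t⁻¹ = y := by rw [hx, hy]; group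
    have hti : t⁻¹ = t := inv_eq_of_mul_eq_one_right ht2
    have hyx : t * y * t⁻¹ = x := by
      rw [← hxy, show t * (t * x * t⁻¹) * t⁻¹ = t * t * x * (t⁻¹ * t⁻¹) by group, hti, ht2]
      group
    obtain ⟨e, hcomm, hmove⟩ := exists_middle (hx ▸ conj_sq (sq_eq hB a0 ha0))
      (hy ▸ conj_sq (sq_eq hB a0 ha0))
      (hx ▸ hy ▸ odd_at hB ha0 ha01 ha0 ha01 (fun h' => hb h'.symm)) hxy hyx
    obtain ⟨u, hu⟩ : ∃ u, u = e * x * e⁻¹ := ⟨_, rfl⟩
    rw [← hu] at hcomm hmove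
    have huc : u = (e * h) * a0 * (e * h)⁻¹ := by rw [hu, hx]; group
    have hc : t • ((e * h : G) : G ⧸ M) = ((e * h : G) : G ⧸ M) :=
      fix_only hB ha0 ha01 (by
        rw [← huc, smul_smul, ← hcomm, ← smul_smul]
        exact congrArg (t • ·) (huc ▸ fix_own hB ha0))
    have hub : u • (h : G ⧸ M) = t • (h : G ⧸ M) :=
      (fix_only (h := t * h) hB ha0 ha01 (by
        rw [← hy, ← hmove, mul_smul, mul_smul, inv_smul_smul, hx, fix_own hB ha0])).trans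
        (MulAction.Quotient.smul_coe M t h).symm
    obtain ⟨g0, hg0, hg0c⟩ := fix_trans hB ht2 hto hc
    obtain ⟨u0, hu0⟩ : ∃ u0, u0 = g0⁻¹ * u * g0 := ⟨_, rfl⟩
    have hu0t : u0 * t = t * u0 := by
      calc u0 * t = g0⁻¹ * u * (g0 * t) := by rw [hu0]; group
        _ = g0⁻¹ * (u * t) * g0 := by rw [hg0]; group
        _ = g0⁻¹ * t * g0 * (g0⁻¹ * u * g0) := by rw [← hcomm]; group
        _ = t * u0 := by rw [hu0, mul_assoc g0⁻¹ t g0, ← hg0, inv_mul_cancel_left]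
    have hu0M : u0 ∈ M := by
      rw [MulAction.Quotient.smul_coe, smul_eq_mul, mul_one, QuotientGroup.eq] at hg0c
      have e1 : u0 = g0⁻¹ * (e * h) * a0 * (g0⁻¹ * (e * h))⁻¹ := by rw [hu0, huc]; group
      rw [e1]
      exact mul_mem (mul_mem hg0c (A_le hB ha0)) (inv_mem hg0c)
    let H : Subgroup G := centralizer ({t} : Set G) ⊓ M
    have hAH : A ≤ H := le_inf hAt (A_le hB)
    have hu0H : u0 ∈ H := mem_inf.2 ⟨mem_centralizer_singleton_iff.2 hu0t, hu0M⟩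
    have hu02 : u0 * u0 = 1 := by
      have e1 : u0 = g0⁻¹ * e * h * a0 * (g0⁻¹ * e * h)⁻¹ := by rw [hu0, huc]; group
      rw [e1]
      exact conj_sq (sq_eq hB a0 ha0)
    obtain ⟨P, hP⟩ :=
      ((S.2.to_le hB.ctl.sc.1).of_equiv (subgroupOfEquivOfLe hAH).symm).exists_le_sylow
    obtain ⟨P', hP'⟩ := ((isPGroup_zpowers hu02).of_equiv
      (subgroupOfEquivOfLe (zpowers_le.2 hu0H)).symm).exists_le_sylow
    obtain ⟨d, hd⟩ := MulAction.exists_smul_eq ↥H P' P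
    have hdu : (d : G) * u0 * (d : G)⁻¹ ∈ (P : Subgroup ↥H).map H.subtype := by
      refine ⟨d * ⟨u0, hu0H⟩ * d⁻¹, ?_, rfl⟩
      rw [← hd, Sylow.coe_subgroup_smul]
      exact smul_mem_pointwise_smul _ (MulAut.conj d) _ (hP' (mem_zpowers u0))
    obtain ⟨w, hw⟩ : ∃ w, w = (d : G) * u0 * (d : G)⁻¹ := ⟨_, rfl⟩
    have hwA : w ∈ A := by
      have e1 : w = d * g0⁻¹ * e * h * a0 * ((d : G) * g0⁻¹ * e * h)⁻¹ := by
        rw [hw, hu0, huc]; group
      rw [e1]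
      exact conj_mem_of_pgroup hB (P.2.map H.subtype) (fun z hz => ⟨⟨z, hAH hz⟩, hP hz, rfl⟩) ha0
        (e1 ▸ hw ▸ hdu)
    have hw1 : w ≠ 1 := fun h' => ha01 (by
      have e1 : w = d * g0⁻¹ * e * h * a0 * ((d : G) * g0⁻¹ * e * h)⁻¹ := by
        rw [hw, hu0, huc]; group
      exact conj_eq_one_iff.1 (e1 ▸ h'))
    have hdt : Commute (d : G) t := mem_centralizer_singleton_iff.1 (mem_inf.1 d.2).1
    have hgt : Commute (g0 * (d : G)⁻¹) t := Commute.mul_left hg0 hdt.inv_left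
    refine ⟨g0 * (d : G)⁻¹, hgt.eq, w, hwA, hw1, ?_⟩
    have e2 : g0 * (d : G)⁻¹ * (t * w) * (g0 * (d : G)⁻¹)⁻¹ = t * u := by
      rw [show g0 * (d : G)⁻¹ * (t * w) = t * (g0 * (d : G)⁻¹) * w by
        rw [← mul_assoc, hgt.eq], hw, hu0]
      group
    rw [e2, mul_smul, hub, smul_smul, ht2, one_smul]
  refine ⟨hmid, fun htrans w hw hw1 => ?_⟩
  have hbad : ∀ v ∈ A, v ≠ 1 → BadInv (G ⧸ M) (t * v) := by
    obtain ⟨b, hb⟩ := moves hG hB ht1
    obtain ⟨g, hg, v, hv, hv1, hvb⟩ := hmid b hb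
    have hne : t * v ≠ 1 := fun h => by
      have e1 : t = v := by
        rw [← mul_one t, ← sq_eq hB v hv, ← mul_assoc, h, one_mul]
      have hfix : ∀ c : G ⧸ M, t • c = c → c = ((1 : G) : G ⧸ M) := fun c hc =>
        fix_only (h := 1) hB hv hv1 (by rw [one_mul, inv_one, mul_one, ← e1]; exact hc)
      exact hpq ((hfix p hp).trans (hfix q hq).symm)
    have hb0 : BadInv (G ⧸ M) (t * v) := by
      refine ⟨hne, ?_, ((1 : G) : G ⧸ M), g⁻¹ • b, fun h => hb ?_, ?_, ?_⟩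
      · rw [mul_assoc, ← mul_assoc v t v, ← hta v hv, mul_assoc t v v, sq_eq hB v hv, mul_one, ht2]
      · rw [← smul_inv_smul g b, ← h, smul_smul, ← hg, ← smul_smul, hto]
      · rw [smul_coe_eq_iff]
        simpa using mul_mem htM (A_le hB hv)
      · rwa [mul_smul (g * (t * v)), mul_smul g, ← eq_inv_smul_iff] at hvb
    intro v' hv' hv'1
    obtain ⟨n, -, hnt, hnv⟩ := htrans t ht hAt v hv hv1 v' hv' hv'1
    have e1 : n * (t * v) * n⁻¹ = t * v' := by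
      calc n * (t * v) * n⁻¹ = n * t * n⁻¹ * (n * v * n⁻¹) := by group
        _ = t * v' := by rw [hnt, mul_inv_cancel_right, hnv]
    exact e1 ▸ hb0.conj n
  refine ⟨hbad w hw hw1, ?_⟩
  obtain ⟨v, hv, hv1, hvw⟩ : ∃ v ∈ A, v ≠ 1 ∧ v ≠ w := by
    by_contra! h
    have hsub : (A : Set G) ⊆ {1, w} := fun z hz => by
      rcases eq_or_ne z 1 with rfl | h1
      · exact Or.inl rfl
      · exact Or.inr (h z hz h1)
    have h2 := Set.ncard_le_ncard hsub (Set.toFinite _)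
    rw [Set.ncard_pair (Ne.symm hw1), ← Nat.card_coe_set_eq] at h2
    have := hB.big
    change Nat.card ↥A ≤ 2 at h2
    omega
  have hAtv : A ≤ centralizer ({t * v} : Set G) := fun z hz => by
    rw [mem_centralizer_singleton_iff, ← mul_assoc, ← hta z hz, mul_assoc, commA hB hz hv,
      mul_assoc]
  obtain ⟨n, -, hnt, hnv⟩ := htrans _ (hbad v hv hv1) hAtv v hv hv1 (v * w) (mul_mem hv hw)
    (fun h => hvw (by rw [← mul_one v, ← sq_eq hB w hw, ← mul_assoc, h, one_mul]))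
  refine isConj_iff.2 ⟨n, ?_⟩
  calc n * t * n⁻¹ = n * (t * v * v) * n⁻¹ := by rw [mul_assoc t v v, sq_eq hB v hv, mul_one]
    _ = n * (t * v) * n⁻¹ * (n * v * n⁻¹) := by group
    _ = t * w := by
      rw [hnt, hnv, mul_inv_cancel_right, mul_assoc, ← mul_assoc v v, sq_eq hB v hv, one_mul]

end Cfsg.Agent.ThreePrime20.Points
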